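import Mathlib
import Groth.Agent.Lib.Helper5.NegCfg.DegImm
import Groth.Agent.Lib.Lead.QC.TwistEquiv
import Groth.Agent.Lib.Lead.MS.Flat2
import Groth.Agent.Lib.Helper5.AG.ProjProper
import Groth.Agent.Lib.Helper1.SmoothDepth
import Groth.Prelude.Def_DCoh4
import Groth.Prelude.Def_Omega2
import Groth.Agent.Lib.Lead.QC.PullInv
import Groth.Agent.Lib.Helper5.Glue.F

/-!
# The self-intersection of a nonsingular curve on a surface is the degree of its normal sheaf
(S19625).
-/

set_option autoImplicit false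
set_option linter.style.haveILetI false
universe u
open CategoryTheory CategoryTheory.Limits AlgebraicGeometry TopologicalSpace Opposite

namespace Groth.Agent.H5.NormalSheaf

open Groth.Agent.LD Groth.Agent.LD.QC Groth.Agent.H5.IntN Groth.Agent.H5.NumRS
  Groth.Agent.LD.RRS.Kit Groth.Agent.H5.DegC Groth.Agent.H5.Curve6 Groth.Agent.H5.NegCfg

/-- the sheaf Hom out of an invertible module is tensoring with the inverse. -/
noncomputable def sheafHomIso {X : Scheme.{u}} (M M' : X.Modules) [DCoh.HasSheafHom M]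
    (e : CohB1.tensorMod M M' ≅ unitMod X) (N : X.Modules) :
    (DCoh.sheafHom M).obj N ≅ CohB1.tensorMod N M' :=
  let adj1 : (DCoh.tensorBi (X := X)).obj M ⊣ twF M' :=
    ((twEquiv M M' e).toAdjunction).ofNatIsoLeft
      (show twF M ≅ (DCoh.tensorBi (X := X)).obj M from
        (Groth.Agent.LD.MS.braidIso (O := X.sheaf) M).symm)
  ((DCoh.sheafHomAdj M).rightAdjointUniq adj1).app N

theorem main (k : Type u) [Field k] (S : Scheme.{u}) [S.Over (Spec (CommRingCat.of k))]
    [IsIntegral S] (hdim : topologicalKrullDim S = 2) [Smooth (S ↘ (Spec (CommRingCat.of k)))]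
    (hproj : ∃ (n : ℕ) (ι : S ⟶ CohB1.ProjSpace n k), IsClosedImmersion ι ∧ ι ≫ CohB1.ProjSpace.toSpec n k = (S ↘ (Spec (CommRingCat.of k))))
    (C : Scheme.{u}) (i : C ⟶ S) [IsClosedImmersion i] [IsIntegral C] (hC : topologicalKrullDim C = 1)
    [DCoh.HasSheafHom (Omega.conormal i)] :
    letI : C.Over (Spec (CommRingCat.of k)) := ⟨i ≫ (S ↘ (Spec (CommRingCat.of k)))⟩
    FGA.intNum k S 2 ![ClSub.idealMod i.ker, ClSub.idealMod i.ker] (Coh.structureModule S) =
      Curv2.deg k C ((DCoh.sheafHom (Omega.conormal i)).obj (Coh.structureModule C)) 1 := by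
  letI : C.Over (Spec (CommRingCat.of k)) := ⟨i ≫ (S ↘ (Spec (CommRingCat.of k)))⟩
  obtain ⟨n, ι, hι, hιc⟩ := hproj
  haveI : IsProper (S ↘ Spec (CommRingCat.of k)) := by
    rw [← hιc]
    haveI := Groth.Agent.H5.AG.isProper_toSpec n k
    infer_instance
  have hreg : ∀ x : S, IsRegularLocalRing (S.presheaf.stalk x) := fun x =>
    Groth.Agent.H1.SmoothDepth.isRegularLocalRing_stalk_of_smooth k
      (S ↘ Spec (CommRingCat.of k)) x
  -- the ideal is invertible
  obtain ⟨D, hD⟩ : ∃ D : S.IdealSheafData, D = i.ker := ⟨_, rfl⟩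
  let φ : C ⟶ i.ker.subscheme := i.toImage
  haveI : IsIso φ := inferInstanceAs (IsIso i.toImage)
  have hDint : IsIntegral i.ker.subscheme := by
    haveI : Nonempty i.ker.subscheme := ⟨φ (Classical.arbitrary C)⟩
    exact isIntegral_of_isOpenImmersion (inv φ)
  have hDd : topologicalKrullDim (i.ker.support : Set S) = 1 := by
    rw [← Groth.Agent.H5.IntN.dim_subscheme_eq i.ker, ← hC]
    exact (IsHomeomorph.topologicalKrullDim_eq _ (φ.homeomorph).isHomeomorph).symm
  obtain ⟨hcart, hinv⟩ := isInvertible_idealMod_of_curve k S hdim hreg i.ker hDint hDd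
  obtain ⟨L, hL, ⟨eL⟩⟩ := Groth.Agent.H5.Glue.exists_inverse (ClSub.idealMod i.ker) hinv
  have h1 := intNum_idealMod_ker_eq_deg k S hdim hreg C i hC L (ClSub.idealMod i.ker) hL
    ⟨tensorCommAll L _ ≪≫ eL⟩
  have e' : CohB1.tensorMod (Omega.conormal i) ((Scheme.Modules.pullback i).obj L) ≅ unitMod C :=
    (pbTensorIso i (ClSub.idealMod i.ker) L hinv hL).symm ≪≫
      (Scheme.Modules.pullback i).mapIso eL ≪≫ pbUnitIso i
  have eN : (DCoh.sheafHom (Omega.conormal i)).obj (Coh.structureModule C) ≅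
      (Scheme.Modules.pullback i).obj L :=
    sheafHomIso (Omega.conormal i) _ e' (unitMod C) ≪≫ unitorL' _
  refine h1.trans ?_
  exact (Curve.deg_iso k C eN 1).symm

end Groth.Agent.H5.NormalSheaf
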